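import Mathlib

/-!
# Extensions with the same class are equivalent
-/

universe w v u

open CategoryTheory CategoryTheory.Limits

namespace GrothLib.ExtEq13

variable {C : Type u} [Category.{v} C] [Abelian C] [HasExt.{w} C]

/-- Two extensions with the same class are equivalent. -/
theorem exists_iso_of_extClass_eq {A B E₁ E₂ : C} {f₁ : A ⟶ E₁} {g₁ : E₁ ⟶ B} {w₁ : f₁ ≫ g₁ = 0}
    {f₂ : A ⟶ E₂} {g₂ : E₂ ⟶ B} {w₂ : f₂ ≫ g₂ = 0}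
    (h₁ : (ShortComplex.mk f₁ g₁ w₁).ShortExact) (h₂ : (ShortComplex.mk f₂ g₂ w₂).ShortExact)
    (h : h₁.extClass = h₂.extClass) :
    ∃ φ : E₁ ⟶ E₂, IsIso φ ∧ f₁ ≫ φ = f₂ ∧ φ ≫ g₂ = g₁ := by
  obtain ⟨x, hx⟩ := Abelian.Ext.covariant_sequence_exact₃ E₁ h₂ (Abelian.Ext.mk₀ g₁) (zero_add 1)
    (by rw [← h]; exact h₁.comp_extClass)
  obtain ⟨ψ, rfl⟩ := (Abelian.Ext.mk₀_bijective E₁ E₂).2 x
  have hψ : ψ ≫ g₂ = g₁ := by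
    rw [Abelian.Ext.mk₀_comp_mk₀] at hx
    exact (Abelian.Ext.mk₀_bijective E₁ B).1 hx
  obtain ⟨a, ha⟩ : ∃ a : A ⟶ A, a ≫ f₂ = f₁ ≫ ψ := by
    haveI : Mono (ShortComplex.mk f₂ g₂ w₂).f := h₂.mono_f
    exact ⟨h₂.exact.lift (f₁ ≫ ψ) (by simp [hψ, w₁]), h₂.exact.lift_f _ _⟩
  let φ : ShortComplex.mk f₁ g₁ w₁ ⟶ ShortComplex.mk f₂ g₂ w₂ := ⟨a, ψ, 𝟙 B, ha, by simpa using hψ⟩
  have hn := ShortComplex.ShortExact.extClass_naturality h₁ h₂ φ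
  have hz : h₁.extClass.comp (Abelian.Ext.mk₀ (a - 𝟙 A)) (add_zero 1) = 0 := by
    have e : Abelian.Ext.mk₀ (a - 𝟙 A) = Abelian.Ext.mk₀ a - Abelian.Ext.mk₀ (𝟙 A) :=
      map_sub (Abelian.Ext.addEquiv₀ (X := A) (Y := A)).symm a (𝟙 A)
    rw [e, sub_eq_add_neg, Abelian.Ext.comp_add, Abelian.Ext.comp_neg]
    change h₁.extClass.comp (Abelian.Ext.mk₀ φ.τ₁) _ + _ = 0
    rw [hn]
    simp [φ, h]
  obtain ⟨y, hy⟩ := Abelian.Ext.contravariant_sequence_exact₁ h₁ A _ (add_zero 1) hz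
  obtain ⟨c, rfl⟩ := (Abelian.Ext.mk₀_bijective E₁ A).2 y
  have hc : f₁ ≫ c = a - 𝟙 A := by
    rw [Abelian.Ext.mk₀_comp_mk₀] at hy
    exact (Abelian.Ext.mk₀_bijective A A).1 hy
  have e₁ : f₁ ≫ (ψ - c ≫ f₂) = f₂ := by
    rw [Preadditive.comp_sub, ← Category.assoc, hc, Preadditive.sub_comp, ha, Category.id_comp, sub_sub_cancel]
  have e₂ : (ψ - c ≫ f₂) ≫ g₂ = g₁ := by
    rw [Preadditive.sub_comp, Category.assoc, w₂, comp_zero, sub_zero, hψ]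
  let χ : ShortComplex.mk f₁ g₁ w₁ ⟶ ShortComplex.mk f₂ g₂ w₂ :=
    ⟨𝟙 A, ψ - c ≫ f₂, 𝟙 B, by simpa using e₁.symm, by simpa using e₂⟩
  haveI : IsIso χ.τ₁ := inferInstanceAs (IsIso (𝟙 A))
  haveI : IsIso χ.τ₃ := inferInstanceAs (IsIso (𝟙 B))
  exact ⟨_, ShortComplex.isIso₂_of_shortExact_of_isIso₁₃ χ h₁ h₂, e₁, e₂⟩

end GrothLib.ExtEq13
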